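import Cfsg.Agent.J4Type.Base
import Cfsg.Agent.LargeExtra.Nine.ToCent

/-!
# OMEGA / EH3: from `F*(C(z)/Q) = 3·M₂₂` to the hypotheses of S1670 (helper893)

`p : Pair Q z A a`, `|Q| = 2^13`, `|p.D| = 2^6`, `H = p.H` (the image of `C_G(z)` in `GL(Q/⟨z⟩)`), `L` a normal
subgroup of index 2 of `H`, perfect, `|Z(L)| = 3`, `L / Z(L) ≅ M₂₂`, `C_H(L) ≤ L`.  Then the preimages
`Q ≤ N ≤ M` of `1`, `Z(L)`, `L` in `C_G(z)` satisfy the hypotheses `J4Type.Hyp` of S1646 / S1670.
-/

set_option autoImplicit false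

namespace Cfsg.Agent.Omega.EH3.MTwentyTwo.Exit

open Cfsg Cfsg.Agent.Co2Type.Quad Cfsg.Agent.LargeExtra.Base Cfsg.Agent.LargeExtra.Local
open Cfsg.Agent.LargeExtra.Nine
open scoped commutatorElement

/-! ### An abstract form -/

section abs

variable {C H : Type*} [Group C] [Group H]

/-- the preimage of the centre of `L` -/
def N (f : C →* H) (L : Subgroup H) : Subgroup C := ((Subgroup.center L).map L.subtype).comap f

theorem mem_N {f : C →* H} {L : Subgroup H} {c : C} :
    c ∈ N f L ↔ f c ∈ L ∧ ∀ l ∈ L, f c * l = l * f c := by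
  unfold N
  rw [Subgroup.mem_comap, Subgroup.mem_map]
  constructor
  · rintro ⟨x, hx, h⟩
    rw [← h]
    refine ⟨x.2, fun l hl => ?_⟩
    exact (congrArg Subtype.val (Subgroup.mem_center_iff.1 hx ⟨l, hl⟩)).symm
  · rintro ⟨h1, h2⟩
    refine ⟨⟨f c, h1⟩, ?_, rfl⟩
    rw [Subgroup.mem_center_iff]
    intro l
    exact Subtype.ext (h2 l l.2).symm

variable {f : C →* H} {L : Subgroup H}

theorem N_normal [hL : L.Normal] : (N f L).Normal where
  conj_mem := by
    intro c hc g
    rw [mem_N] at hc ⊢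
    rw [map_mul, map_mul, map_inv]
    refine ⟨hL.conj_mem _ hc.1 _, fun l hl => ?_⟩
    have h1 := hc.2 _ (hL.conj_mem l hl (f g)⁻¹)
    rw [inv_inv] at h1
    calc f g * f c * (f g)⁻¹ * l = f g * (f c * ((f g)⁻¹ * l * f g)) * (f g)⁻¹ := by group
      _ = f g * ((f g)⁻¹ * l * f g * f c) * (f g)⁻¹ := by rw [h1]
      _ = l * (f g * f c * (f g)⁻¹) := by group

theorem N_le : N f L ≤ L.comap f := fun _ hc => (mem_N.1 hc).1

theorem ker_le : f.ker ≤ N f L := by
  intro c hc
  rw [MonoidHom.mem_ker] at hc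
  rw [mem_N, hc]
  exact ⟨L.one_mem, fun l _ => by rw [one_mul, mul_one]⟩

theorem comm_le : ⁅L.comap f, N f L⁆ ≤ f.ker := by
  rw [Subgroup.commutator_le]
  intro m hm n hn
  rw [MonoidHom.mem_ker, commutatorElement_def, map_mul, map_mul, map_mul, map_inv, map_inv,
    ← (mem_N.1 hn).2 _ (Subgroup.mem_comap.1 hm)]
  group

theorem card_N [Finite C] (hf : Function.Surjective f) :
    Nat.card (N f L) = Nat.card (Subgroup.center L) * Nat.card f.ker := by
  have h1 : Nat.card ((Subgroup.center L).map L.subtype) = Nat.card (Subgroup.center L) :=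
    Subgroup.card_map_of_injective L.subtype_injective
  have hH : Finite H := Finite.of_surjective f hf
  have h2 : (N f L).index = ((Subgroup.center L).map L.subtype).index :=
    Subgroup.index_comap_of_surjective _ hf
  have h3 := (N f L).card_mul_index
  have h4 := ((Subgroup.center L).map L.subtype).card_mul_index
  have h5 := f.ker.card_mul_index
  have h6 : f.ker.index = Nat.card H := by
    rw [Subgroup.index_ker, MonoidHom.range_eq_top.2 hf, Subgroup.card_top]
  rw [h6, ← h4, h1, ← h3, h2] at h5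
  have h7 : 0 < ((Subgroup.center L).map L.subtype).index := Nat.pos_of_ne_zero Subgroup.index_ne_zero_of_finite
  apply Nat.eq_of_mul_eq_mul_right h7
  rw [← h5]
  ring

theorem perf (hf : Function.Surjective f) (hL : ⁅L, L⁆ = L) :
    L.comap f ≤ ⁅L.comap f, L.comap f⁆ ⊔ f.ker := by
  intro m hm
  have h1 : (⁅L.comap f, L.comap f⁆).map f = L := by
    rw [Subgroup.map_commutator, Subgroup.map_comap_eq_self_of_surjective hf, hL]
  have h2 : f m ∈ (⁅L.comap f, L.comap f⁆).map f := by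
    rw [h1]; exact hm
  obtain ⟨m', hm', h3⟩ := h2
  have h4 : m'⁻¹ * m ∈ f.ker := by
    rw [MonoidHom.mem_ker, map_mul, map_inv, h3, inv_mul_cancel]
  have h5 : m = m' * (m'⁻¹ * m) := by group
  rw [h5]
  exact mul_mem (Subgroup.mem_sup_left hm') (Subgroup.mem_sup_right h4)

/-- an element commuting with `L` modulo the centre of the perfect group `L` centralises `L` -/
theorem cent_of (hL : ⁅L, L⁆ = L) {x : H}
    (h : ∀ l ∈ L, x * l * x⁻¹ * l⁻¹ ∈ L ∧ ∀ k ∈ L, (x * l * x⁻¹ * l⁻¹) * k = k * (x * l * x⁻¹ * l⁻¹))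
    {l : H} (hl : l ∈ L) : x * l = l * x := by
  have h1 : ⁅L, L⁆ ≤ Subgroup.centralizer ({x} : Set H) := by
    rw [Subgroup.commutator_le]
    intro u hu v hv
    rw [Subgroup.mem_centralizer_singleton_iff]
    obtain ⟨-, hu1⟩ := h u hu
    obtain ⟨hvL, hv1⟩ := h v hv
    generalize hζ : x * u * x⁻¹ * u⁻¹ = ζ at hu1
    generalize hη : x * v * x⁻¹ * v⁻¹ = η at hv1 hvL
    have e1 : x * u * x⁻¹ = ζ * u := by rw [← hζ]; group
    have e2 : x * v * x⁻¹ = η * v := by rw [← hη]; group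
    have c1 : Commute (ζ * η) u := (Commute.mul_left (hu1 u hu) (hv1 u hu) : Commute (ζ * η) u)
    have c2 : Commute (ζ * η) v := (Commute.mul_left (hu1 v hv) (hv1 v hv) : Commute (ζ * η) v)
    have e3 : x * ⁅u, v⁆ * x⁻¹ = ⁅u, v⁆ := by
      have e4 : x * ⁅u, v⁆ * x⁻¹ =
          ((x * u * x⁻¹) * (x * v * x⁻¹)) * ((x * v * x⁻¹) * (x * u * x⁻¹))⁻¹ := by
        rw [commutatorElement_def]; group
      have e5 : (ζ * u) * (η * v) = (ζ * η) * (u * v) := by
        rw [mul_assoc, ← mul_assoc u η v, ← hv1 u hu]; group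
      have e6 : (η * v) * (ζ * u) = (ζ * η) * (v * u) := by
        rw [mul_assoc, ← mul_assoc v ζ u, ← hu1 v hv, hu1 η hvL]; group
      have e7 : Commute (ζ * η) ((u * v) * (v * u)⁻¹) :=
        (c1.mul_right c2).mul_right (c2.mul_right c1).inv_right
      rw [e4, e1, e2, e5, e6, mul_inv_rev, commutatorElement_def]
      calc ζ * η * (u * v) * ((v * u)⁻¹ * (ζ * η)⁻¹) = ((ζ * η) * ((u * v) * (v * u)⁻¹)) * (ζ * η)⁻¹ := by
            group
        _ = (((u * v) * (v * u)⁻¹) * (ζ * η)) * (ζ * η)⁻¹ := by rw [e7.eq]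
        _ = u * v * u⁻¹ * v⁻¹ := by group
    exact (mul_inv_eq_iff_eq_mul.1 e3).symm
  have h2 := Subgroup.mem_centralizer_singleton_iff.1 (h1 (hL.symm ▸ hl))
  exact h2.symm

/-- the quotient of the preimages -/
theorem exists_equiv (hf : Function.Surjective f) [(N f L).Normal] [((N f L).subgroupOf (L.comap f)).Normal] :
    Nonempty (↥(L.comap f) ⧸ (N f L).subgroupOf (L.comap f) ≃* L ⧸ Subgroup.center L) := by
  let g : ↥(L.comap f) →* L := f.subgroupComap L
  have hg : Function.Surjective g := by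
    intro l
    obtain ⟨c, hc⟩ := hf l
    exact ⟨⟨c, by rw [Subgroup.mem_comap, hc]; exact l.2⟩, Subtype.ext hc⟩
  let g' : ↥(L.comap f) →* L ⧸ Subgroup.center L := (QuotientGroup.mk' _).comp g
  have hg' : Function.Surjective g' := (QuotientGroup.mk'_surjective _).comp hg
  have hker : g'.ker = (N f L).subgroupOf (L.comap f) := by
    ext c
    rw [MonoidHom.mem_ker, Subgroup.mem_subgroupOf, mem_N]
    show (QuotientGroup.mk' _) (g c) = 1 ↔ _
    rw [QuotientGroup.mk'_apply, QuotientGroup.eq_one_iff, Subgroup.mem_center_iff]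
    constructor
    · intro h
      exact ⟨c.2, fun l hl => (congrArg Subtype.val (h ⟨l, hl⟩)).symm⟩
    · intro h l
      exact Subtype.ext (h.2 l l.2).symm
  exact ⟨(QuotientGroup.quotientMulEquivOfEq hker.symm).trans
    (QuotientGroup.quotientKerEquivOfSurjective g' hg')⟩

end abs

/-! ### The hypotheses of S1670 -/

variable {G : Type*} [Group G] {Q A : Subgroup G} {z a : G}

/-- **the exit `F*(C(z)/Q) = 3·M₂₂`** -/
theorem hyp [Finite G] (p : Pair Q z A a) (hQ : Nat.card Q = 2 ^ 13) (hD : Nat.card p.D = 2 ^ 6)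
    (L : Subgroup p.H) [L.Normal] (hi : L.index = 2) (hZ : Nat.card (Subgroup.center L) = 3)
    (hL : ⁅L, L⁆ = L) (hiso : Spor.IsoM22 (L ⧸ Subgroup.center L))
    (hcent : Subgroup.centralizer (L : Set p.H) ≤ L) :
    ∃ N M : Subgroup (Subgroup.centralizer ({z} : Set G)),
      J4Type.Hyp z (Q.subgroupOf (Subgroup.centralizer ({z} : Set G))) N M := by
  have : (Q.subgroupOf (Subgroup.centralizer ({z} : Set G))).Normal := ToCent.normal p.lz
  let f : Subgroup.centralizer ({z} : Set G) →* p.H := p.lz.act.rangeRestrict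
  have hf : Function.Surjective f := p.lz.act.rangeRestrict_surjective
  have hker : f.ker = Q.subgroupOf (Subgroup.centralizer ({z} : Set G)) := by
    rw [← ToCent.ker_act p.lz]
    exact p.lz.act.ker_rangeRestrict
  have hN : (N f L).Normal := N_normal
  have hM : (L.comap f).Normal := inferInstance
  refine ⟨N f L, L.comap f, J4Type.Hyp.of_raw z (orderOf_z p.lz) _ (N f L) (L.comap f) ?_ N_le ?_
    (ToCent.isExtraspecial p.lz ?_) ?_ ?_ ?_ ?_ ?_ (ToCent.centralizer_le p.lz) ?_ ?_⟩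
  · rw [← hker]; exact ker_le
  · rw [Subgroup.index_comap_of_surjective _ hf, hi]
  · rw [hQ]; norm_num
  · rw [ToCent.card_subgroupOf p.lz, hQ]
  · obtain ⟨E, hE, hEc⟩ := ToCent.exists_elem p
    exact ⟨E, hE, by rw [hEc, hD]; norm_num⟩
  · rw [← hker, card_N hf, hZ]
  · rw [← hker]; exact comm_le
  · rw [← hker]; exact perf hf hL
  · intro c hc
    rw [Subgroup.mem_comap]
    apply hcent
    rw [Subgroup.mem_centralizer_iff]
    intro l hl
    symm
    refine cent_of hL (fun l hl => ?_) hl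
    obtain ⟨m, rfl⟩ := hf l
    have h1 := mem_N.1 (hc m hl)
    rw [map_mul, map_mul, map_mul, map_inv, map_inv] at h1
    exact h1
  · obtain ⟨e⟩ := hiso
    obtain ⟨e'⟩ := exists_equiv (f := f) (L := L) hf
    exact ⟨e'.trans e⟩

end Cfsg.Agent.Omega.EH3.MTwentyTwo.Exit
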