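import Cfsg.Agent.Omega.EH3.MTwentyTwo.Glue
import Cfsg.Agent.Omega.EH3.KStep
import Cfsg.Agent.J4Type.Top
import Cfsg.Prelude.Def_Spor_J4

/-!
# OMEGA / EH3: `F*(C(z)/Q) = 3·M₂₂`, width 6, gives `J₄` (helper893)
-/

set_option autoImplicit false

namespace Cfsg.Agent.Omega.EH3.MTwentyTwo.ExitJ4

open Subgroup Cfsg Cfsg.Agent.Co2Type.Quad Cfsg.Agent.LargeExtra.Base Cfsg.Agent.LargeExtra.Local
open Cfsg.Agent.Omega.TwoF Cfsg.Agent.Omega.KFacts Cfsg.Agent.Omega.EH3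

variable {G : Type*} [Group G] {Q A : Subgroup G} {z a : G}

/-- **the exit `F*(C(z)/Q) = 3·M₂₂`** -/
theorem isoJ4 [Finite G] [IsSimpleGroup G] (p : Pair Q z A a) (hQ : Nat.card Q = 2 ^ 13)
    (hD : Nat.card p.D = 2 ^ 6) (L : Subgroup p.H) [L.Normal] (hi : L.index = 2)
    (hZ : Nat.card (Subgroup.center L) = 3) (hL : ⁅L, L⁆ = L)
    (hiso : Spor.IsoM22 (L ⧸ Subgroup.center L)) (hcent : Subgroup.centralizer (L : Set p.H) ≤ L) :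
    Spor.IsoJ4 G := by
  obtain ⟨N, M, H⟩ := Exit.hyp p hQ hD L hi hZ hL hiso hcent
  obtain ⟨f, hf⟩ := J4Type.Top.main H
  exact ⟨(MulEquiv.ofBijective f hf).symm⟩

/-- **the row `M22` of the main case gives `J₄`** -/
theorem isoJ4_of_cfg [Finite G] [IsSimpleGroup G] (p : Pair Q z A a) {w : ℕ}
    (C : Cfg (p.H.subtype : p.H →* (p.lz.V ≃ₗ[ZMod 2] p.lz.V)) p.lz.b p.lz.q p.va p.D (p.X.subgroupOf p.H) w)
    {K : Type*} [Group K] (hK : Spor.IsoM22 K) (L : Subgroup p.H) [L.Normal] {π : L →* K} (hπ : OddCover π)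
    (hX : p.X.subgroupOf p.H ⊓ centralizer (L : Set p.H) = ⊥) : Spor.IsoJ4 G := by
  obtain ⟨N, M, H⟩ := Glue.hyp_of_cfg p C hK L hπ hX
  obtain ⟨f, hf⟩ := J4Type.Top.main H
  exact ⟨(MulEquiv.ofBijective f hf).symm⟩

/-- the same for `L / Z(L)` -/
theorem isoJ4_of_quotient [Finite G] [IsSimpleGroup G] (p : Pair Q z A a) {w : ℕ}
    (C : Cfg (p.H.subtype : p.H →* (p.lz.V ≃ₗ[ZMod 2] p.lz.V)) p.lz.b p.lz.q p.va p.D (p.X.subgroupOf p.H) w)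
    (L : Subgroup p.H) [L.Normal] (hL : commutator L = ⊤) (hodd : Odd (Nat.card (center L)))
    (hX : p.X.subgroupOf p.H ⊓ centralizer (L : Set p.H) = ⊥) (hK : Spor.IsoM22 (L ⧸ center L)) : Spor.IsoJ4 G :=
  isoJ4_of_cfg p C hK L (oddCover_mk hL hodd) hX

end Cfsg.Agent.Omega.EH3.MTwentyTwo.ExitJ4
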