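import Cfsg.Agent.Omega.EH3.M22.OfCfg
import Cfsg.Agent.Omega.EH3.Of
import Cfsg.Agent.Omega.EH3.MTwentyTwo.Exit

/-!
# EH3, row `M22`: from the configuration to the hypotheses of S1670 (helper893)

`index_two` : in the configuration of EH3 with a normal odd cover `L` of `M22`, `X ∩ C_H(L) = 1`, `L` has index 2 in `H`.
`hyp_of_cfg` : for a pair `p`, the centraliser of `z` then satisfies the hypotheses `J4Type.Hyp` of S1670.
-/

set_option autoImplicit false

namespace Cfsg.Agent.Omega.EH3.MTwentyTwo.Glue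

open Cfsg Subgroup Cfsg.Agent.Co2Type.Quad Cfsg.Agent.LargeExtra.Base Cfsg.Agent.LargeExtra.Local
open Cfsg.Agent.Omega.EH3.M22.Irr Cfsg.Agent.Omega.TwoF
open Cfsg.Agent.KFacts.MM.Sub Cfsg.Agent.KFacts.MM.OutP
open Cfsg.Agent.J4Type.Aut22 (D22 mem_D22_iff M22_le_D22)

/-- `L` has index 2 in `H` (abstract form) -/
theorem index_two_inp {H V : Type*} [Group H] [AddCommGroup V] [DistribMulAction H V] {f : V → V → ZMod 2}
    {A L : Subgroup H} {a : V} {w : ℕ} [Finite H] [Finite V] (I : Inp f A L a w) : L.index = 2 := by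
  obtain ⟨σ, hD, hk, hL, hs, hA, hP⟩ := M22.Row.exists_sigma I
  obtain ⟨-, -, hC⟩ := M22.Row.row I
  have hiff : ∀ h : H, h ∈ L ↔ σ h ∈ Spor.M22 := by
    intro h
    constructor
    · exact hL h
    · intro hh
      obtain ⟨l, hl, e⟩ := hs _ hh
      have h1 : σ (l⁻¹ * h) = 1 := by rw [map_mul, map_inv, e, inv_mul_cancel]
      have h2 := mul_mem hl (hC _ ((hk _).1 h1))
      rwa [mul_inv_cancel_left] at h2
  obtain ⟨x, hx, e⟩ := hP b b_mem
  rw [Subgroup.index_eq_two_iff]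
  refine ⟨x, fun h => ?_⟩
  rw [hiff, hiff, map_mul, e]
  by_cases hh : σ h ∈ Spor.M22
  · right
    refine ⟨hh, fun h2 => b_not_M22 ?_⟩
    have h3 := mul_mem (inv_mem hh) h2
    rwa [inv_mul_cancel_left] at h3
  · left
    exact ⟨out_b (hD h) hh, hh⟩

/-- `L` has index 2 in `H` -/
theorem index_two {H V : Type*} [Group H] [AddCommGroup V] [Module (ZMod 2) V]
    {ρ : H →* (V ≃ₗ[ZMod 2] V)} {b : LinearMap.BilinForm (ZMod 2) V} {q : V → ZMod 2} {a : V}
    {D : Submodule (ZMod 2) V} {X : Subgroup H} {w : ℕ} (C : Cfg ρ b q a D X w) {L : Subgroup H} (hL : L.Normal)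
    (hp : ⁅L, L⁆ = L) (hi : Spor.IsoM22 (L ⧸ center L)) (hX : X ⊓ centralizer (L : Set H) = ⊥) :
    L.index = 2 := by
  have := C.finite_H
  have := C.finite_V
  exact @index_two_inp H V _ _ (M22.OfCfg.actA ρ) _ X L a w _ _ (M22.OfCfg.inp_of_cfg C hL hp hi hX)

variable {G : Type*} [Group G] {Q A : Subgroup G} {z a : G}

/-- **the row `M22` and its exit**: the hypotheses of S1670 -/
theorem hyp_of_cfg [Finite G] (p : Pair Q z A a) {w : ℕ}
    (C : Cfg (p.H.subtype : p.H →* (p.lz.V ≃ₗ[ZMod 2] p.lz.V)) p.lz.b p.lz.q p.va p.D (p.X.subgroupOf p.H) w)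
    {K : Type*} [Group K] (hK : Spor.IsoM22 K) (L : Subgroup p.H) [hLn : L.Normal] {π : L →* K} (hπ : OddCover π)
    (hX : p.X.subgroupOf p.H ⊓ centralizer (L : Set p.H) = ⊥) :
    ∃ N M : Subgroup (Subgroup.centralizer ({z} : Set G)),
      J4Type.Hyp z (Q.subgroupOf (Subgroup.centralizer ({z} : Set G))) N M := by
  obtain ⟨hw, hZ3, hi, hC⟩ := M22.OfCfg.row_cfg hK C hLn hπ hX
  have hp : ⁅L, L⁆ = L := by
    have h1 := hπ.perf
    rw [commutator_def] at h1
    have h2 : (⁅(⊤ : Subgroup L), (⊤ : Subgroup L)⁆).map L.subtype = (⊤ : Subgroup L).map L.subtype := by rw [h1]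
    rw [map_commutator, ← MonoidHom.range_eq_map, range_subtype] at h2
    exact h2
  subst hw
  have hQ : Nat.card Q = 2 ^ 13 := by
    rw [p.lz.card_eq, C.card_V]
    norm_num
  exact Exit.hyp p hQ C.card_D L (index_two C hLn hp hi hX) hZ3 hp hi fun h hh =>
    hC h fun l hl => (mem_centralizer_iff.1 hh l hl).symm

end Cfsg.Agent.Omega.EH3.MTwentyTwo.Glue
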